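import Cfsg.Agent.H834.F4.Cnt
import Cfsg.Agent.H944.TorAnyChev

/-!
# S5926, F-E4 (helper834): elements of order 5 over an algebraically closed field
-/

set_option autoImplicit false

namespace Cfsg.Agent.H834.F4

open Cfsg.Lie Cfsg.Agent.H952.F4 Module
open Cfsg.Agent.ChevalleyStructure.E6Min.Tables Cfsg.Agent.ChevalleyStructure.E6Min.Basic
open Cfsg.Agent.GpExc.Field (emb)
open Cfsg.Agent.BpExc.TorAll Cfsg.Agent.BpExc.TorChev Cfsg.Agent.BpExc
open Cfsg.Agent.Nodes.RGDChev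

universe u

theorem simple_vec : ∀ i : Fin 4, ∃ s : Fin chevF4.nroots, ∀ j : Fin 4, vec chevF4 4 s j = if j = i then 1 else 0 := by
  intro i
  fin_cases i
  · exact ⟨⟨33, by decide⟩, by decide +kernel⟩
  · exact ⟨⟨27, by decide⟩, by decide +kernel⟩
  · exact ⟨⟨25, by decide⟩, by decide +kernel⟩
  · exact ⟨⟨24, by decide⟩, by decide +kernel⟩

theorem exists_diag (p : ℕ) [Fact p.Prime] {K : Type u} [Field K] [IsAlgClosed K] [CharP K p] (hK : HAlg p K)
    (hp5 : p ≠ 5) {ρ : ↥(chevF4.group K) →* GL I27 K} (hρ : IsJ ρ) {x : ↥(chevF4.group K)} (hx : x ^ 5 = 1) {ζ : K}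
    (hζ : IsPrimitiveRoot ζ 5) : ∃ g : ↥(chevF4.group K), ∃ a < 5, ∃ b < 5, ∃ c < 5, ∃ d < 5,
      (((ρ g * ρ x * (ρ g)⁻¹ : GL I27 K)) : Matrix I27 I27 K) =
        Matrix.diagonal fun p => ζ ^ (vals a b c d).getD (code p) 9 := by
  have hcop : Nat.Coprime 5 p := (Nat.coprime_primes (by norm_num) Fact.out).2 (Ne.symm hp5)
  obtain ⟨g, hg⟩ := H944.TorAnyChev.exists_conj_mem_TT H815.F4Tor.typeF4 p hK (by norm_num) hcop hx
  obtain ⟨c, hL, hJ⟩ := Tor.diag hρ hg
  have ht5 : (g * x * g⁻¹) ^ 5 = 1 := by rw [conj_pow, hx, mul_one, mul_inv_cancel]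
  have hc5 : ∀ i, c i ^ 5 = 1 := by
    intro i
    obtain ⟨s, hs⟩ := simple_vec i
    have h1 : ((((g * x * g⁻¹ : ↥(chevF4.group K)) : GL chevF4.Idx K) :
        Matrix chevF4.Idx chevF4.Idx K)) ^ 5 = 1 := by
      rw [← Units.val_pow_eq_pow_val, ← Subgroup.coe_pow, ht5]
      rfl
    rw [hL, Matrix.diagonal_pow, ← Matrix.diagonal_one] at h1
    have h2 := congrFun (Matrix.diagonal_injective h1) (Sum.inr s)
    simp only [Pi.pow_apply, Sum.elim_inr] at h2
    rw [← Units.val_pow_eq_pow_val, ← Units.val_one, Units.val_inj] at h2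
    have h3 : ∏ j, c j ^ vec chevF4 4 s j = c i := by
      rw [Finset.prod_eq_single i]
      · rw [hs, if_pos rfl, zpow_one]
      · intro j _ hj
        rw [hs, if_neg hj, zpow_zero]
      · intro h; exact absurd (Finset.mem_univ _) h
    rw [h3] at h2
    exact h2
  have hv : ∀ i, ∃ k < 5, ζ ^ k = c i := by
    intro i
    apply hζ.eq_pow_of_pow_eq_one
    rw [← Units.val_pow_eq_pow_val, hc5, Units.val_one]
  choose v hv5 hv using hv
  refine ⟨g, v 0, hv5 0, v 1, hv5 1, v 2, hv5 2, v 3, hv5 3, ?_⟩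
  have e1 : (ρ g * ρ x * (ρ g)⁻¹ : GL I27 K) = ρ (g * x * g⁻¹) := by rw [map_mul, map_mul, map_inv]
  rw [e1, hJ]
  congr 1
  funext q
  have hq : code q < 27 := code_lt q
  rw [vals_getD _ _ _ _ hq, ← pow_eq_pow_mod _ hζ.pow_eq_one]
  rcases rq_spec ⟨code q, hq⟩ with ⟨h1, h2⟩ | ⟨h1, h2⟩
  · rw [if_pos h1]
    dsimp only at h2
    rw [h2]
    simp
  · rw [if_neg h1]
    dsimp only at h2
    have h3 : ∀ i, c i ^ vec chevF4 4 (wtab.getD (code q) 48) i = c i ^ rq (code q) i := by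
      intro i
      obtain ⟨k, hk⟩ := h2 i
      have h4 : vec chevF4 4 (wtab.getD (code q) 48) i = (rq (code q) i : ℤ) + 5 * k := by linarith
      rw [h4, zpow_add, zpow_mul, zpow_natCast]
      have h5 : c i ^ (5 : ℤ) = 1 := by
        have := hc5 i
        exact_mod_cast this
      rw [h5, one_zpow, mul_one]
    rw [Finset.prod_congr rfl fun i _ => h3 i, Fin.prod_univ_four]
    push_cast
    rw [← hv 0, ← hv 1, ← hv 2, ← hv 3, ← pow_mul, ← pow_mul, ← pow_mul, ← pow_mul, ← pow_add, ← pow_add, ← pow_add]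

theorem trace_conj {K : Type*} [Field K] (P : GL I27 K) (A : Matrix I27 I27 K) :
    ((P : Matrix I27 I27 K) * A * ((P⁻¹ : GL I27 K) : Matrix I27 I27 K)).trace = A.trace := by
  rw [Matrix.trace_mul_comm, ← mul_assoc, ← Units.val_mul, inv_mul_cancel, Units.val_one, one_mul]

/-- the invariants of an element with a known diagonal form -/
theorem invariants {K : Type u} [Field K] [DecidableEq K] {ρ : ↥(chevF4.group K) →* GL I27 K}
    {x g : ↥(chevF4.group K)} {ζ : K} (hζ : IsPrimitiveRoot ζ 5) {a b c d : ℕ}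
    (h : (((ρ g * ρ x * (ρ g)⁻¹ : GL I27 K)) : Matrix I27 I27 K) =
        Matrix.diagonal fun p => ζ ^ (vals a b c d).getD (code p) 9) (μ : K) :
    ((vals a b c d).count 0 = ev (JK ρ x) 1) ∧
    finrank K ↥(LinearMap.ker (JK ρ x * JK ρ x - μ • JK ρ x + 1)) =
      (vals a b c d).count 0 * (if (1 : K) - μ + 1 = 0 then 1 else 0) +
      (vals a b c d).count 1 * (if ζ ^ 2 - μ * ζ + 1 = 0 then 1 else 0) +
      (vals a b c d).count 2 * (if ζ ^ 4 - μ * ζ ^ 2 + 1 = 0 then 1 else 0) +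
      (vals a b c d).count 3 * (if ζ ^ 6 - μ * ζ ^ 3 + 1 = 0 then 1 else 0) +
      (vals a b c d).count 4 * (if ζ ^ 8 - μ * ζ ^ 4 + 1 = 0 then 1 else 0) ∧
    LinearMap.trace K _ (JK ρ x) = (vals a b c d).count 0 + (vals a b c d).count 1 * ζ +
      (vals a b c d).count 2 * ζ ^ 2 + (vals a b c d).count 3 * ζ ^ 3 + (vals a b c d).count 4 * ζ ^ 4 ∧
    LinearMap.trace K _ (JK ρ (x * x)) = (vals a b c d).count 0 + (vals a b c d).count 1 * ζ ^ 2 +
      (vals a b c d).count 2 * ζ ^ 4 + (vals a b c d).count 3 * ζ ^ 6 + (vals a b c d).count 4 * ζ ^ 8 := by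
  have hne : ∀ i, 0 < i → i < 5 → ζ ^ i ≠ 1 := fun i hi hi5 => hζ.pow_ne_one_of_pos_of_lt hi.ne' hi5
  set A : Matrix I27 I27 K := ((ρ x : GL I27 K) : Matrix I27 I27 K) with hA
  set D : I27 → K := fun p => ζ ^ (vals a b c d).getD (code p) 9 with hD
  have h' : ((ρ g : GL I27 K) : Matrix I27 I27 K) * A * (((ρ g)⁻¹ : GL I27 K) : Matrix I27 I27 K) =
    Matrix.diagonal D := by rw [← h, Units.val_mul, Units.val_mul]
  have hJ : JK ρ x = Matrix.toLin' A := rfl
  refine ⟨?_, ?_, ?_, ?_⟩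
  · have h1 := H815.F4Chg.ev_toLin A (1 : K)
    have h3 : Fintype.card I27 = 27 := by simp [I27]
    rw [← rank_conj (ρ g), h3, ← hJ] at h1
    have h2 : ((ρ g : GL I27 K) : Matrix I27 I27 K) * (A - (1 : K) • 1) * (((ρ g)⁻¹ : GL I27 K) : Matrix I27 I27 K) =
        Matrix.diagonal fun p => D p - 1 := by
      rw [mul_sub, sub_mul, h', one_smul, mul_one, ← Units.val_mul, mul_inv_cancel, Units.val_one,
        ← Matrix.diagonal_one]
      ext i j
      by_cases hij : i = j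
      · subst hij; simp
      · simp [hij]
    rw [h2, Matrix.rank_diagonal, Fintype.card_subtype] at h1
    have h4 := Finset.card_filter_add_card_filter_not (s := (Finset.univ : Finset I27)) (p := fun i => D i - 1 = 0)
    have h5 : (Finset.univ : Finset I27).card = 27 := by
      rw [Finset.card_univ]; simp [I27]
    rw [h5] at h4
    have h6 : (Finset.univ.filter fun i : I27 => D i - 1 = 0).card = (vals a b c d).count 0 := by
      rw [Finset.card_filter]
      have h7 := sum_vals (M := ℕ) a b c d (fun v => if ζ ^ v - 1 = 0 then 1 else 0)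
      have e1 : (if ζ ^ 1 - 1 = 0 then 1 else 0 : ℕ) = 0 := if_neg (sub_ne_zero.2 (hne 1 (by omega) (by omega)))
      have e2 : (if ζ ^ 2 - 1 = 0 then 1 else 0 : ℕ) = 0 := if_neg (sub_ne_zero.2 (hne 2 (by omega) (by omega)))
      have e3 : (if ζ ^ 3 - 1 = 0 then 1 else 0 : ℕ) = 0 := if_neg (sub_ne_zero.2 (hne 3 (by omega) (by omega)))
      have e4 : (if ζ ^ 4 - 1 = 0 then 1 else 0 : ℕ) = 0 := if_neg (sub_ne_zero.2 (hne 4 (by omega) (by omega)))
      have e0 : (if ζ ^ 0 - 1 = 0 then 1 else 0 : ℕ) = 1 := if_pos (by simp)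
      rw [e0, e1, e2, e3, e4] at h7
      simp only [smul_eq_mul, mul_one, mul_zero, add_zero] at h7
      exact h7
    have h8 : ev (JK ρ x) 1 + (Finset.univ.filter fun i : I27 => ¬ (D i - 1 = 0)).card = 27 := h1
    have h9 : (Finset.univ.filter fun i : I27 => D i - 1 = 0).card +
      (Finset.univ.filter fun i : I27 => ¬ (D i - 1 = 0)).card = 27 := h4
    omega
  · have h1 := ker_rank A μ
    rw [← rank_conj (ρ g), ← qm_conj, h'] at h1
    have h2 := rank_qm_diagonal D μ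
    have h3 : finrank K ↥(LinearMap.ker (JK ρ x * JK ρ x - μ • JK ρ x + 1)) =
        ∑ p : I27, if D p * D p - μ * D p + 1 = 0 then 1 else 0 := by
      rw [hJ]; omega
    rw [h3]
    have h7 := sum_vals (M := ℕ) a b c d (fun v => if ζ ^ v * ζ ^ v - μ * ζ ^ v + 1 = 0 then 1 else 0)
    have e : ∀ v, ζ ^ v * ζ ^ v = ζ ^ (2 * v) := fun v => by rw [← pow_add, two_mul]
    simp only [smul_eq_mul, e] at h7
    simp only [hD, e]
    rw [h7]
    norm_num
  · have h1 : LinearMap.trace K _ (JK ρ x) = (Matrix.diagonal D).trace := by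
      rw [hJ, Matrix.trace_toLin'_eq, ← h', trace_conj]
    rw [h1, Matrix.trace_diagonal]
    have h7 := sum_vals a b c d (fun v => ζ ^ v)
    rw [h7]
    simp
  · have h1 : LinearMap.trace K _ (JK ρ (x * x)) = (Matrix.diagonal D * Matrix.diagonal D).trace := by
      have h2 : JK ρ (x * x) = Matrix.toLin' (A * A) := by
        show Matrix.toLin' ((ρ (x * x) : GL I27 K) : Matrix I27 I27 K) = _
        rw [map_mul, Units.val_mul]
      have h3 : Matrix.diagonal D * Matrix.diagonal D =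
          ((ρ g : GL I27 K) : Matrix I27 I27 K) * (A * A) * (((ρ g)⁻¹ : GL I27 K) : Matrix I27 I27 K) := by
        have h4 : (((ρ g)⁻¹ : GL I27 K) : Matrix I27 I27 K) * ((ρ g : GL I27 K) : Matrix I27 I27 K) = 1 := by
          rw [← Units.val_mul, inv_mul_cancel, Units.val_one]
        rw [← h']
        calc _ = ((ρ g : GL I27 K) : Matrix I27 I27 K) * A * ((((ρ g)⁻¹ : GL I27 K) : Matrix I27 I27 K) *
              ((ρ g : GL I27 K) : Matrix I27 I27 K)) * (A * (((ρ g)⁻¹ : GL I27 K) : Matrix I27 I27 K)) := by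
              simp only [mul_assoc]
          _ = _ := by rw [h4, mul_one]; simp only [mul_assoc]
      rw [h2, Matrix.trace_toLin'_eq, h3, trace_conj]
    rw [h1, Matrix.diagonal_mul_diagonal, Matrix.trace_diagonal]
    have h7 := sum_vals a b c d (fun v => ζ ^ v * ζ ^ v)
    rw [h7]
    simp only [nsmul_eq_mul]
    ring

end Cfsg.Agent.H834.F4
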