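import Cfsg.Agent.H834.F4.Core
import Cfsg.Agent.H834.F4.Dg
import Cfsg.Agent.H952.F4.Inv

/-!
# S5926, F-E4 (helper834): `axis_dim`, `axis` relative to a representation over the closure
-/

set_option autoImplicit false

namespace Cfsg.Agent.H834.F4

open Cfsg.Lie Cfsg.Agent.H952.F4 Module
open Cfsg.Agent.ChevalleyStructure.E6Min.Tables Cfsg.Agent.ChevalleyStructure.E6Min.Basic
open Cfsg.Agent.GpExc.Field (emb emb_injective)
open Cfsg.Agent.BpExc.TorAll Cfsg.Agent.BpExc.TorChev Cfsg.Agent.BpExc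
open Cfsg.Agent.Nodes.RGDChev

universe u

section Root

variable {K : Type u} [Field K]

theorem prim_of_golden (h5 : (5 : K) ≠ 0) {ζ μ : K} (hμ : μ * μ + μ = 1) (hζ : ζ * ζ - μ * ζ + 1 = 0) :
    IsPrimitiveRoot ζ 5 := by
  have h1 : ζ ^ 4 + ζ ^ 3 + ζ ^ 2 + ζ + 1 = 0 := by
    linear_combination (ζ ^ 2 + (μ + 1) * ζ + 1) * hζ + ζ ^ 2 * hμ
  have h2 : ζ ^ 5 = 1 := by linear_combination (ζ - 1) * h1
  have h3 : ζ ≠ 1 := by
    rintro rfl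
    apply h5
    linear_combination h1
  have := Fact.mk (by norm_num : Nat.Prime 5)
  rw [IsPrimitiveRoot.iff_orderOf]
  exact orderOf_eq_prime h2 h3

/-- the roots of `x² - μ x + 1` among the powers of `ζ` -/
theorem roots_cases [DecidableEq K] {ζ μ : K} (hζ : IsPrimitiveRoot ζ 5) {n0 n1 n2 n3 n4 : ℕ}
    (h0 : n0 = 5) (h : n0 * (if (1 : K) - μ + 1 = 0 then 1 else 0) + n1 * (if ζ ^ 2 - μ * ζ + 1 = 0 then 1 else 0) +
      n2 * (if ζ ^ 4 - μ * ζ ^ 2 + 1 = 0 then 1 else 0) + n3 * (if ζ ^ 6 - μ * ζ ^ 3 + 1 = 0 then 1 else 0) +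
      n4 * (if ζ ^ 8 - μ * ζ ^ 4 + 1 = 0 then 1 else 0) = 12) :
    (n1 + n4 = 12 ∧ (1 : K) - μ + 1 ≠ 0 ∧ ζ ^ 2 - μ * ζ + 1 = 0 ∧ ζ ^ 4 - μ * ζ ^ 2 + 1 ≠ 0 ∧
      ζ ^ 6 - μ * ζ ^ 3 + 1 ≠ 0 ∧ ζ ^ 8 - μ * ζ ^ 4 + 1 = 0) ∨
    (n2 + n3 = 12 ∧ (1 : K) - μ + 1 ≠ 0 ∧ ζ ^ 2 - μ * ζ + 1 ≠ 0 ∧ ζ ^ 4 - μ * ζ ^ 2 + 1 = 0 ∧
      ζ ^ 6 - μ * ζ ^ 3 + 1 = 0 ∧ ζ ^ 8 - μ * ζ ^ 4 + 1 ≠ 0) := by
  have hz5 := hζ.pow_eq_one
  have hz0 : ζ ≠ 0 := hζ.ne_zero (by norm_num)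
  have z1 : ζ - 1 ≠ 0 := sub_ne_zero.2 (by
    have := hζ.pow_ne_one_of_pos_of_lt (l := 1) (by norm_num) (by norm_num); rwa [pow_one] at this)
  have z2 : ζ ^ 2 - 1 ≠ 0 := sub_ne_zero.2 (hζ.pow_ne_one_of_pos_of_lt (by norm_num) (by norm_num))
  have z3 : ζ ^ 3 - 1 ≠ 0 := sub_ne_zero.2 (hζ.pow_ne_one_of_pos_of_lt (by norm_num) (by norm_num))
  have e4 : ζ ^ 8 - μ * ζ ^ 4 + 1 = ζ ^ 3 * (ζ ^ 2 - μ * ζ + 1) := by linear_combination (ζ ^ 3 - 1) * hz5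
  have e3 : ζ ^ 6 - μ * ζ ^ 3 + 1 = ζ * (ζ ^ 4 - μ * ζ ^ 2 + 1) := by linear_combination (ζ - 1) * hz5
  have i4 : ζ ^ 8 - μ * ζ ^ 4 + 1 = 0 ↔ ζ ^ 2 - μ * ζ + 1 = 0 := by
    rw [e4, mul_eq_zero, or_iff_right (pow_ne_zero _ hz0)]
  have i3 : ζ ^ 6 - μ * ζ ^ 3 + 1 = 0 ↔ ζ ^ 4 - μ * ζ ^ 2 + 1 = 0 := by
    rw [e3, mul_eq_zero, or_iff_right hz0]
  have c01 : (1 : K) - μ + 1 = 0 → ζ ^ 2 - μ * ζ + 1 = 0 → False := by
    intro h0 h1
    have h2 : (ζ - 1) * (ζ - 1) = 0 := by linear_combination h1 - ζ * h0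
    exact z1 (mul_self_eq_zero.1 h2)
  have c02 : (1 : K) - μ + 1 = 0 → ζ ^ 4 - μ * ζ ^ 2 + 1 = 0 → False := by
    intro h0 h1
    have h2 : (ζ ^ 2 - 1) * (ζ ^ 2 - 1) = 0 := by linear_combination h1 - ζ ^ 2 * h0
    exact z2 (mul_self_eq_zero.1 h2)
  have c12 : ζ ^ 2 - μ * ζ + 1 = 0 → ζ ^ 4 - μ * ζ ^ 2 + 1 = 0 → False := by
    intro h0 h1
    have h2 : (ζ - 1) * (ζ ^ 3 - 1) = 0 := by linear_combination h1 - ζ * h0
    exact (mul_eq_zero.1 h2).elim z1 z3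
  by_cases a0 : (1 : K) - μ + 1 = 0
  · exfalso
    rw [if_pos a0, if_neg (c01 a0), if_neg (c02 a0), if_neg (fun h => c02 a0 (i3.1 h)),
      if_neg (fun h => c01 a0 (i4.1 h))] at h
    omega
  · by_cases a1 : ζ ^ 2 - μ * ζ + 1 = 0
    · left
      have a2 := c12 a1
      rw [if_neg a0, if_pos a1, if_neg a2, if_neg (fun h => a2 (i3.1 h)), if_pos (i4.2 a1)] at h
      exact ⟨by omega, a0, a1, a2, fun h => a2 (i3.1 h), i4.2 a1⟩
    · by_cases a2 : ζ ^ 4 - μ * ζ ^ 2 + 1 = 0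
      · right
        rw [if_neg a0, if_neg a1, if_pos a2, if_pos (i3.2 a2), if_neg (fun h => a1 (i4.1 h))] at h
        exact ⟨by omega, a0, a1, a2, i3.2 a2, fun h => a1 (i4.1 h)⟩
      · exfalso
        rw [if_neg a0, if_neg a1, if_neg a2, if_neg (fun h => a2 (i3.1 h)), if_neg (fun h => a1 (i4.1 h))] at h
        omega

/-- the kernel of the quadratic polynomial and a change of fields -/
theorem finrank_map {F : Type u} [Field F] (f : F →+* K) {ρ : ↥(chevF4.group F) →* GL I27 F}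
    {ρ' : ↥(chevF4.group K) →* GL I27 K} (h : IsJ ρ) (h' : IsJ ρ') (z : ↥(chevF4.group F)) (μ : F) :
    finrank K ↥(LinearMap.ker (JK ρ' (emb hF4 f z) * JK ρ' (emb hF4 f z) - f μ • JK ρ' (emb hF4 f z) + 1)) =
      finrank F ↥(LinearMap.ker (JK ρ z * JK ρ z - μ • JK ρ z + 1)) := by
  have h1 := ker_rank ((ρ z : GL I27 F) : Matrix I27 I27 F) μ
  have h2 := ker_rank ((ρ' (emb hF4 f z) : GL I27 K) : Matrix I27 I27 K) (f μ)
  rw [H815.F4Chg.J_map f h h' z, ← qm_map, H593.RobinsonRank.rank_map] at h2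
  have e1 : JK ρ z = Matrix.toLin' ((ρ z : GL I27 F) : Matrix I27 I27 F) := rfl
  have e2 : JK ρ' (emb hF4 f z) = Matrix.toLin' (((ρ z : GL I27 F) : Matrix I27 I27 F).map f) := by
    rw [← H815.F4Chg.J_map f h h' z]; rfl
  rw [e1, e2]
  omega

theorem chk_of {a b c d : ℕ} (ha : a < 5) (hb : b < 5) (hc : c < 5) (hd : d < 5) : chk (vals a b c d) = true :=
  allLt_spec (allLt_spec (allLt_spec (allLt_spec chk_all a ha) b hb) c hc) d hd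

/-- the multiplicities -/
theorem counts {L : List ℕ} (h : chk L = true) (h0 : L.count 0 = 5) :
    (L.count 1 = 6 ∧ L.count 4 = 6 ∧ L.count 2 = 5 ∧ L.count 3 = 5) ∨
      (L.count 1 = 5 ∧ L.count 4 = 5 ∧ L.count 2 = 6 ∧ L.count 3 = 6) := by
  unfold chk at h
  rw [h0] at h
  simp only [bne_self_eq_false, Bool.false_or, Bool.and_eq_true, Bool.or_eq_true, beq_iff_eq] at h
  obtain ⟨h, -⟩ := h
  rcases h with ⟨⟨⟨h1, h2⟩, h3⟩, h4⟩ | ⟨⟨⟨h1, h2⟩, h3⟩, h4⟩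
  · exact Or.inl ⟨h1, h2, h3, h4⟩
  · exact Or.inr ⟨h1, h2, h3, h4⟩

theorem chk_axis {L : List ℕ} (h : chk L = true) (h0 : L.count 0 = 5) {e : ℕ} (he : e = 1 ∨ e = 2)
    (hc : L.count e + L.count (5 - e) = 12) :
    ∃ k, (k = 0 ∨ k = 4 ∨ k = 8) ∧ chkA L e k = true ∧ chkB L e k = true ∧ chkE L k = true := by
  unfold chk at h
  rw [h0] at h
  simp only [bne_self_eq_false, Bool.false_or, Bool.and_eq_true] at h
  obtain ⟨-, h⟩ := h
  have h1 := List.all_eq_true.1 h e (by simpa using he)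
  rw [hc] at h1
  simp only [bne_self_eq_false, Bool.false_or] at h1
  obtain ⟨k, hk, hk2⟩ := List.any_eq_true.1 h1
  simp only [Bool.and_eq_true] at hk2
  exact ⟨k, by simpa using hk, hk2.1.1, hk2.1.2, hk2.2⟩

end Root

section Main

variable {F K : Type u} [Field F] [Field K] [IsAlgClosed K]

theorem axis_dim_aux (p : ℕ) [Fact p.Prime] [CharP K p] (hK : HAlg p K) (f : F →+* K) (hp5 : p ≠ 5)
    {ρ : ↥(chevF4.group F) →* GL I27 F} {ρ' : ↥(chevF4.group K) →* GL I27 K} (hρ : IsJ ρ) (hρ' : IsJ ρ')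
    {z : ↥(chevF4.group F)} (hz : z ^ 5 = 1) (h5 : ev (JK ρ z) 1 = 5) (μ : F) (hμ : μ * μ + μ = 1) :
    (finrank F ↥(LinearMap.ker (JK ρ z * JK ρ z - μ • JK ρ z + 1)) = 12 ∧
      LinearMap.trace F _ (JK ρ z) - LinearMap.trace F _ (JK ρ (z * z)) = 2 * μ + 1) ∨
    (finrank F ↥(LinearMap.ker (JK ρ z * JK ρ z - μ • JK ρ z + 1)) = 10 ∧
      LinearMap.trace F _ (JK ρ z) - LinearMap.trace F _ (JK ρ (z * z)) = -(2 * μ + 1)) := by
  classical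
  have h5K : (5 : K) ≠ 0 := by
    intro h
    have h1 : ((5 : ℕ) : K) = 0 := by exact_mod_cast h
    rw [CharP.cast_eq_zero_iff K p] at h1
    exact hp5 ((Nat.prime_dvd_prime_iff_eq Fact.out (by norm_num)).1 h1)
  set ν := f μ with hν
  have hνν : ν * ν + ν = 1 := by rw [hν, ← map_mul, ← map_add, hμ, map_one]
  obtain ⟨ζ, hζ⟩ : ∃ ζ : K, ζ * ζ - ν * ζ + 1 = 0 := by
    have hdeg : (Polynomial.C (1 : K) * Polynomial.X ^ 2 + Polynomial.C (-ν) * Polynomial.X + Polynomial.C 1).degree ≠ 0 := by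
      rw [Polynomial.degree_quadratic one_ne_zero]
      norm_num
    obtain ⟨ζ, hζ⟩ := IsAlgClosed.exists_root _ hdeg
    refine ⟨ζ, ?_⟩
    rw [Polynomial.IsRoot, Polynomial.eval_add, Polynomial.eval_add, Polynomial.eval_mul, Polynomial.eval_mul,
      Polynomial.eval_pow, Polynomial.eval_X, Polynomial.eval_C, Polynomial.eval_C] at hζ
    linear_combination hζ
  have hprim := prim_of_golden h5K hνν hζ
  have hz5 := hprim.pow_eq_one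
  have hz' : (emb hF4 f z) ^ 5 = 1 := by rw [← map_pow, hz, map_one]
  obtain ⟨g, a, ha, b, hb, c, hc, d, hd, hdiag⟩ := exists_diag p hK hp5 hρ' hz' hprim
  obtain ⟨i1, i2, i3, i4⟩ := invariants hprim hdiag ν
  have h0 : (vals a b c d).count 0 = 5 := by
    rw [i1, ← map_one f, Chg.ev_J f hρ hρ', h5]
  rw [finrank_map f hρ hρ'] at i2
  rw [Chg.trace_J f hρ hρ'] at i3
  rw [← map_mul (emb hF4 f), Chg.trace_J f hρ hρ'] at i4
  have c0 : (1 : K) - ν + 1 ≠ 0 := by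
    intro h
    apply h5K
    linear_combination hνν + (3 + ν) * h
  have c1 : ζ ^ 2 - ν * ζ + 1 = 0 := by linear_combination hζ
  have c4 : ζ ^ 8 - ν * ζ ^ 4 + 1 = 0 := by
    linear_combination ζ ^ 3 * c1 + (ζ ^ 3 - 1) * hz5
  have h2ν : 2 * ν + 1 ≠ 0 := by
    intro h
    apply h5K
    linear_combination (2 * ν + 1) * h - 4 * hνν
  have hs : ζ + ζ ^ 4 = ν := by
    have h1 : ζ * (ζ + ζ ^ 4 - ν) = 0 := by linear_combination c1 + hz5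
    have := (mul_eq_zero.1 h1).resolve_left (hprim.ne_zero (by norm_num))
    linear_combination this
  have hs2 : ζ ^ 2 + ζ ^ 3 = -1 - ν := by
    have h1 : ζ ^ 4 + ζ ^ 3 + ζ ^ 2 + ζ + 1 = 0 := by
      linear_combination (ζ ^ 2 + (ν + 1) * ζ + 1) * hζ + ζ ^ 2 * hνν
    linear_combination h1 - hs
  have c2 : ζ ^ 4 - ν * ζ ^ 2 + 1 ≠ 0 := by
    intro h
    apply h2ν
    have h1 : ζ ^ 2 * (2 * ν + 1) = 0 := by
      linear_combination -h + ζ ^ 2 * hs2 - hz5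
    exact (mul_eq_zero.1 h1).resolve_left (pow_ne_zero _ (hprim.ne_zero (by norm_num)))
  have c3 : ζ ^ 6 - ν * ζ ^ 3 + 1 ≠ 0 := by
    intro h
    apply c2
    have h1 : ζ * (ζ ^ 4 - ν * ζ ^ 2 + 1) = 0 := by linear_combination h - (ζ - 1) * hz5
    exact (mul_eq_zero.1 h1).resolve_left (hprim.ne_zero (by norm_num))
  rw [if_neg c0, if_pos c1, if_neg c2, if_neg c3, if_pos c4] at i2
  rcases counts (chk_of ha hb hc hd) h0 with ⟨n1, n4, n2, n3⟩ | ⟨n1, n4, n2, n3⟩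
  · left
    refine ⟨by omega, ?_⟩
    apply f.injective
    rw [map_sub, i3, i4, n1, n2, n3, n4, map_add, map_mul, map_one, ← hν]
    push_cast
    rw [map_ofNat]
    linear_combination hs - hs2 - (5 * ζ + 6 * ζ ^ 3) * hz5
  · right
    refine ⟨by omega, ?_⟩
    apply f.injective
    rw [map_sub, i3, i4, n1, n2, n3, n4, map_neg, map_add, map_mul, map_one, ← hν]
    push_cast
    rw [map_ofNat]
    linear_combination hs2 - hs - (6 * ζ + 5 * ζ ^ 3) * hz5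

end Main

end Cfsg.Agent.H834.F4
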