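import Cfsg.Agent.H834.F4.Ax

/-!
# S5926, F-E4 (helper834): `axis` relative to a representation over the closure
-/

set_option autoImplicit false

namespace Cfsg.Agent.H834.F4

open Cfsg.Lie Cfsg.Agent.H952.F4 Module
open Cfsg.Agent.ChevalleyStructure.E6Min.Tables Cfsg.Agent.ChevalleyStructure.E6Min.Basic
open Cfsg.Agent.GpExc.Field (emb emb_injective)
open Cfsg.Agent.BpExc.TorAll Cfsg.Agent.BpExc.TorChev Cfsg.Agent.BpExc
open Cfsg.Agent.Nodes.RGDChev

universe u

theorem exists_prim {K : Type u} [Field K] [IsAlgClosed K] (h2 : (2 : K) ≠ 0) (h5 : (5 : K) ≠ 0) :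
    ∃ ζ : K, IsPrimitiveRoot ζ 5 := by
  obtain ⟨r, hr⟩ := IsAlgClosed.exists_pow_nat_eq (5 : K) (n := 2) (by norm_num)
  obtain ⟨y, hy⟩ := IsAlgClosed.exists_pow_nat_eq (((r - 1) / 2) ^ 2 - 4 : K) (n := 2) (by norm_num)
  refine ⟨((r - 1) / 2 + y) / 2, prim_of_golden h5 (μ := (r - 1) / 2) ?_ ?_⟩
  · field_simp
    linear_combination hr
  · field_simp
    field_simp at hy
    linear_combination hy

section Main

variable {F K : Type u} [Field F] [Field K]

theorem JK_emb (f : F →+* K) {ρ : ↥(chevF4.group F) →* GL I27 F} {ρ' : ↥(chevF4.group K) →* GL I27 K}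
    (hρ : IsJ ρ) (hρ' : IsJ ρ') (g : ↥(chevF4.group F)) (v : I27 → F) :
    JK ρ' (emb hF4 f g) (fun p => f (v p)) = fun p => f (JK ρ g v p) := by
  rw [Inv.JK_apply, Inv.JK_apply, H815.F4Chg.J_map f hρ hρ' g]
  funext p
  exact (RingHom.map_mulVec f _ v p).symm

/-- the diagonal action -/
theorem JK_diag {ρ' : ↥(chevF4.group K) →* GL I27 K} {x g : ↥(chevF4.group K)} {D : I27 → K}
    (h : (((ρ' g * ρ' x * (ρ' g)⁻¹ : GL I27 K)) : Matrix I27 I27 K) = Matrix.diagonal D) (v : I27 → K) (p : I27) :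
    JK ρ' (g * x * g⁻¹) v p = D p * v p := by
  have e1 : (ρ' g * ρ' x * (ρ' g)⁻¹ : GL I27 K) = ρ' (g * x * g⁻¹) := by rw [map_mul, map_mul, map_inv]
  rw [Inv.JK_apply, ← e1, h, Matrix.mulVec_diagonal]

theorem axis_aux [IsAlgClosed K] (p : ℕ) [Fact p.Prime] [CharP K p] (hK : HAlg p K) (f : F →+* K) (hp2 : p ≠ 2)
    (hp5 : p ≠ 5) {ρ : ↥(chevF4.group F) →* GL I27 F} {ρ' : ↥(chevF4.group K) →* GL I27 K} (hρ : IsJ ρ)
    (hρ' : IsJ ρ') {z s : ↥(chevF4.group F)} (hz : z ^ 5 = 1) (hs : s * z * s⁻¹ = z⁻¹) (h5 : ev (JK ρ z) 1 = 5)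
    (μ : F) (hμ : finrank F ↥(LinearMap.ker (JK ρ z * JK ρ z - μ • JK ρ z + 1)) = 12)
    (x : I27 → F) (hx : JK ρ z x = x) (hsx : JK ρ s x = -x) (w : I27 → F)
    (hw : JK ρ z (JK ρ z w) - μ • JK ρ z w + w = 0) : cr (sh x) w = 0 := by
  classical
  have h5K : (5 : K) ≠ 0 := by
    intro h
    have h1 : ((5 : ℕ) : K) = 0 := by exact_mod_cast h
    rw [CharP.cast_eq_zero_iff K p] at h1
    exact hp5 ((Nat.prime_dvd_prime_iff_eq Fact.out (by norm_num)).1 h1)
  have h2K : (2 : K) ≠ 0 := by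
    intro h
    have h1 : ((2 : ℕ) : K) = 0 := by exact_mod_cast h
    rw [CharP.cast_eq_zero_iff K p] at h1
    exact hp2 ((Nat.prime_dvd_prime_iff_eq Fact.out (by norm_num)).1 h1)
  obtain ⟨ζ, hprim⟩ := exists_prim h2K h5K
  have hz' : (emb hF4 f z) ^ 5 = 1 := by rw [← map_pow, hz, map_one]
  obtain ⟨g, a, ha, b, hb, c, hc, d, hd, hdiag⟩ := exists_diag p hK hp5 hρ' hz' hprim
  obtain ⟨i1, i2, -, -⟩ := invariants hprim hdiag (f μ)
  have h0 : (vals a b c d).count 0 = 5 := by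
    rw [i1, ← map_one f, Chg.ev_J f hρ hρ', h5]
  rw [finrank_map f hρ hρ', hμ] at i2
  have hrc := roots_cases hprim h0 i2.symm
  set L := vals a b c d with hL
  set ν := f μ with hν
  -- the class
  obtain ⟨e, he, hce, hroots⟩ : ∃ e, (e = 1 ∨ e = 2) ∧ L.count e + L.count (5 - e) = 12 ∧
      ∀ v < 5, (ζ ^ v * ζ ^ v - ν * ζ ^ v + 1 = 0 ↔ (v = e ∨ v = 5 - e)) := by
    rcases hrc with ⟨n, r0, r1, r2, r3, r4⟩ | ⟨n, r0, r1, r2, r3, r4⟩
    · refine ⟨1, Or.inl rfl, n, ?_⟩
      intro v hv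
      rw [← pow_add, ← two_mul]
      interval_cases v
      · simp only [mul_zero, pow_zero, mul_one]
        exact iff_of_false r0 (by decide)
      · simp only [mul_one, pow_one]
        exact iff_of_true r1 (by decide)
      · exact iff_of_false r2 (by decide)
      · exact iff_of_false r3 (by decide)
      · exact iff_of_true r4 (by decide)
    · refine ⟨2, Or.inr rfl, n, ?_⟩
      intro v hv
      rw [← pow_add, ← two_mul]
      interval_cases v
      · simp only [mul_zero, pow_zero, mul_one]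
        exact iff_of_false r0 (by decide)
      · simp only [mul_one, pow_one]
        exact iff_of_false r1 (by decide)
      · exact iff_of_true r2 (by decide)
      · exact iff_of_true r3 (by decide)
      · exact iff_of_false r4 (by decide)
  obtain ⟨k, hk, hA, hB, hE⟩ := chk_axis (chk_of ha hb hc hd) h0 he hce
  have hkL : L.getD k 9 = 0 := by
    rw [hL, vals_getD _ _ _ _ (by omega)]
    rcases hk with rfl | rfl | rfl <;> simp [rq, rN]
  set t := g * emb hF4 f z * g⁻¹ with ht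
  set S := g * emb hF4 f s * g⁻¹ with hS
  have hSt : S * t * S⁻¹ = t⁻¹ := by
    rw [hS, ht]
    have h1 : emb hF4 f s * emb hF4 f z * (emb hF4 f s)⁻¹ = (emb hF4 f z)⁻¹ := by
      rw [← map_mul, ← map_inv, ← map_mul, hs, map_inv]
    calc g * emb hF4 f s * g⁻¹ * (g * emb hF4 f z * g⁻¹) * (g * emb hF4 f s * g⁻¹)⁻¹
        = g * (emb hF4 f s * emb hF4 f z * (emb hF4 f s)⁻¹) * g⁻¹ := by group
      _ = _ := by rw [h1]; group
  have hval : ∀ m < 27, L.getD m 9 < 5 := by
    intro m hm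
    rw [hL, vals_getD _ _ _ _ hm]
    exact Nat.mod_lt _ (by norm_num)
  have hD : ∀ (v : I27 → K) (m : ℕ), m < 27 → JK ρ' t v (dec m) = ζ ^ L.getD m 9 * v (dec m) := by
    intro v m hm
    rw [ht, JK_diag hdiag, code_dec hm]
  have hJ : ∀ v : I27 → K, JK ρ' t v = v ↔ ∀ m < 27, L.getD m 9 ≠ 0 → v (dec m) = 0 := by
    intro v
    constructor
    · intro h m hm hne
      have h1 := congrFun h (dec m)
      rw [hD v m hm] at h1
      have h2 : (ζ ^ L.getD m 9 - 1) * v (dec m) = 0 := by linear_combination h1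
      exact (mul_eq_zero.1 h2).resolve_left (sub_ne_zero.2 (hprim.pow_ne_one_of_pos_of_lt hne (hval m hm)))
    · intro h
      apply ext27
      intro m hm
      rw [hD v m hm]
      by_cases h1 : L.getD m 9 = 0
      · rw [h1, pow_zero, one_mul]
      · rw [h m hm h1, mul_zero]
  have hU : ∀ v : I27 → K, JK ρ' t (JK ρ' t v) - ν • JK ρ' t v + v = 0 ↔
      ∀ m < 27, inC L e m = false → v (dec m) = 0 := by
    intro v
    have hin : ∀ m, inC L e m = true ↔ (L.getD m 9 = e ∨ L.getD m 9 = 5 - e) := by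
      intro m
      simp [inC]
    constructor
    · intro h m hm hne
      have h1 := congrFun h (dec m)
      rw [Pi.add_apply, Pi.sub_apply, Pi.smul_apply, hD _ m hm, hD v m hm, Pi.zero_apply, smul_eq_mul] at h1
      have h2 : (ζ ^ L.getD m 9 * ζ ^ L.getD m 9 - ν * ζ ^ L.getD m 9 + 1) * v (dec m) = 0 := by
        linear_combination h1
      refine (mul_eq_zero.1 h2).resolve_left ?_
      rw [hroots _ (hval m hm), ← hin, hne]
      simp
    · intro h
      apply ext27
      intro m hm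
      rw [Pi.add_apply, Pi.sub_apply, Pi.smul_apply, hD _ m hm, hD v m hm, Pi.zero_apply, smul_eq_mul]
      rcases Bool.eq_false_or_eq_true (inC L e m) with h1 | h1
      · rw [hin, ← hroots _ (hval m hm)] at h1
        linear_combination v (dec m) * h1
      · rw [h m hm h1]
        ring
  -- the vectors over `K`
  set x' : I27 → K := JK ρ' g (fun p => f (x p)) with hx'
  set w' : I27 → K := JK ρ' g (fun p => f (w p)) with hw'
  have hmul : ∀ (a b : ↥(chevF4.group K)) (v : I27 → K), JK ρ' (a * b) v = JK ρ' a (JK ρ' b v) := by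
    intro a b v
    rw [map_mul, Module.End.mul_apply]
  have hconj : ∀ (y : ↥(chevF4.group F)) (v : I27 → F),
      JK ρ' (g * emb hF4 f y * g⁻¹) (JK ρ' g (fun p => f (v p))) = JK ρ' g (fun p => f (JK ρ y v p)) := by
    intro y v
    rw [hmul, Inv.JK_inv_apply, hmul, JK_emb f hρ hρ']
  have q1 : JK ρ' t x' = x' := by rw [ht, hx', hconj, hx]
  have q2 : JK ρ' S x' = -x' := by
    rw [hS, hx', hconj, hsx, ← map_neg]
    congr 1
    funext p
    rw [Pi.neg_apply, Pi.neg_apply, map_neg]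
  have q3 : JK ρ' t (JK ρ' t w') - ν • JK ρ' t w' + w' = 0 := by
    rw [ht, hw', hconj, hconj, ← map_smul, ← map_sub, ← map_add]
    have h1 : ((fun p => f (JK ρ z (JK ρ z w) p)) - ν • (fun p => f (JK ρ z w p)) + fun p => f (w p)) =
        (0 : I27 → K) := by
      funext p
      have h2 := congrArg f (congrFun hw p)
      rw [Pi.add_apply, Pi.sub_apply, Pi.smul_apply, smul_eq_mul, map_add, map_sub, map_mul, Pi.zero_apply,
        map_zero] at h2
      exact h2
    rw [h1, map_zero]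
  have key : cr (sh x') w' = 0 := by
    refine core h2K hk hkL hA hB hE (JK ρ' S) ?_ ?_ (Inv.cr_inv hρ' h2K S) (Inv.tf_inv hρ' h2K S)
      (Inv.tr1_inv hρ' h2K S) x' ((hJ x').1 q1) q2 w' ((hU w').1 q3)
    · intro v hv
      rw [← hJ] at hv ⊢
      -- `t (S v) = S (t⁻¹ v)`
      have h1 : t * S = S * t⁻¹ := by
        have h2 : S * t⁻¹ * S⁻¹ = t := by
          have := congrArg (·⁻¹) hSt
          simp only [mul_inv_rev, inv_inv, ← mul_assoc] at this
          exact this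
        calc t * S = (S * t⁻¹ * S⁻¹) * S := by rw [h2]
          _ = S * t⁻¹ := by group
      have h2 : JK ρ' t⁻¹ v = v := by
        conv_lhs => rw [← hv]
        rw [Inv.JK_inv_apply]
      rw [← hmul, h1, hmul, h2]
    · intro v hv
      rw [← hU] at hv
      refine ⟨JK ρ' S⁻¹ v, ?_, Inv.JK_apply_inv S v⟩
      rw [← hU]
      have h1 : t * S⁻¹ = S⁻¹ * t⁻¹ := by rw [← hSt]; group
      have h2 : ∀ u : I27 → K, JK ρ' t (JK ρ' S⁻¹ u) = JK ρ' S⁻¹ (JK ρ' t⁻¹ u) := by
        intro u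
        rw [← hmul, h1, hmul]
      rw [h2, h2, ← map_smul, ← map_sub, ← map_add]
      have h3 : JK ρ' t⁻¹ (JK ρ' t⁻¹ v) - ν • JK ρ' t⁻¹ v + v =
          JK ρ' t⁻¹ (JK ρ' t⁻¹ (JK ρ' t (JK ρ' t v) - ν • JK ρ' t v + v)) := by
        rw [map_add, map_add, map_sub, map_sub, map_smul, map_smul, Inv.JK_inv_apply, Inv.JK_inv_apply]
        abel
      rw [h3, hv, map_zero, map_zero, map_zero]
  rw [hx', hw', Inv.sh_inv hρ' h2K, Inv.cr_inv hρ' h2K, sh_map, cr_map] at key
  have h1 : (fun p => f (cr (sh x) w p)) = (0 : I27 → K) := by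
    rw [← Inv.JK_inv_apply (ρ := ρ') g (fun p => f (cr (sh x) w p)), key, map_zero]
  funext p
  apply f.injective
  rw [Pi.zero_apply, map_zero]
  exact congrFun h1 p

end Main

end Cfsg.Agent.H834.F4
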