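import Cfsg.Agent.H834.F4.Tab
import Cfsg.Agent.H952.F4.TorDiag
import Cfsg.Agent.H952.F4.Chg

/-!
# S5926, F-E4 (helper834): ranks and counting
-/

set_option autoImplicit false

namespace Cfsg.Agent.H834.F4

open Cfsg.Lie Cfsg.Agent.H952.F4 Module
open Cfsg.Agent.ChevalleyStructure.E6Min.Tables Cfsg.Agent.ChevalleyStructure.E6Min.Basic

section Sum

variable {M : Type*} [AddCommMonoid M]

theorem sum_I27 (g : ℕ → M) : ∑ p : I27, g (code p) = ∑ m ∈ Finset.range 27, g m := by
  refine Finset.sum_nbij' code dec ?_ ?_ ?_ ?_ ?_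
  · intro p _
    exact Finset.mem_range.2 (code_lt p)
  · intro m _
    exact Finset.mem_univ _
  · intro p _
    exact dec_code p
  · intro m hm
    exact code_dec (Finset.mem_range.1 hm)
  · intro p _
    rfl

theorem sum_range_list (L : List ℕ) (g : ℕ → M) : ∑ m ∈ Finset.range L.length, g (L.getD m 9) = (L.map g).sum := by
  induction L with
  | nil => simp
  | cons x L ih =>
    rw [List.length_cons, Finset.sum_range_succ', List.map_cons, List.sum_cons, ← ih, add_comm]
    simp

theorem sum_counts {L : List ℕ} (hL : ∀ x ∈ L, x < 5) (g : ℕ → M) :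
    (L.map g).sum = L.count 0 • g 0 + L.count 1 • g 1 + L.count 2 • g 2 + L.count 3 • g 3 + L.count 4 • g 4 := by
  induction L with
  | nil => simp
  | cons x L ih =>
    rw [List.map_cons, List.sum_cons, ih (fun y hy => hL y (List.mem_cons_of_mem _ hy))]
    have hx : x < 5 := hL x (List.mem_cons_self ..)
    interval_cases x <;> simp only [List.count_cons, beq_iff_eq, if_true, reduceIte, add_zero,
      OfNat.ofNat_ne_zero, OfNat.zero_ne_ofNat, OfNat.one_ne_ofNat, OfNat.ofNat_ne_one, zero_ne_one, one_ne_zero,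
      Nat.reduceEqDiff, add_smul, one_smul] <;> abel

end Sum

section Vals

theorem vals_length (a b c d : ℕ) : (vals a b c d).length = 27 := rfl

theorem vals_lt (a b c d : ℕ) : ∀ x ∈ vals a b c d, x < 5 := by
  intro x hx
  obtain ⟨t, -, rfl⟩ := List.mem_map.1 hx
  exact Nat.mod_lt _ (by omega)

theorem vals_getD (a b c d : ℕ) {m : ℕ} (hm : m < 27) :
    (vals a b c d).getD m 9 = (a * rq m 0 + b * rq m 1 + c * rq m 2 + d * rq m 3) % 5 := by
  interval_cases m <;> rfl

theorem sum_vals {M : Type*} [AddCommMonoid M] (a b c d : ℕ) (g : ℕ → M) :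
    ∑ p : I27, g ((vals a b c d).getD (code p) 9) =
      (vals a b c d).count 0 • g 0 + (vals a b c d).count 1 • g 1 + (vals a b c d).count 2 • g 2 +
        (vals a b c d).count 3 • g 3 + (vals a b c d).count 4 • g 4 := by
  rw [← sum_counts (vals_lt a b c d), ← sum_range_list, vals_length]
  exact sum_I27 fun m => g ((vals a b c d).getD m 9)

end Vals

section Mat

variable {K : Type*} [Field K]

/-- the quadratic polynomial `x² - μ x + 1` -/
def qm (A : Matrix I27 I27 K) (μ : K) : Matrix I27 I27 K := A * A - μ • A + 1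

theorem ker_rank (A : Matrix I27 I27 K) (μ : K) :
    finrank K ↥(LinearMap.ker (Matrix.toLin' A * Matrix.toLin' A - μ • Matrix.toLin' A + 1)) + (qm A μ).rank = 27 := by
  have h1 : Matrix.toLin' A * Matrix.toLin' A - μ • Matrix.toLin' A + 1 = Matrix.toLin' (qm A μ) := by
    unfold qm
    rw [map_add, map_sub, map_smul, Matrix.toLin'_one, Matrix.toLin'_mul]
    rfl
  rw [h1]
  have h2 := LinearMap.finrank_range_add_finrank_ker (Matrix.toLin' (qm A μ))
  rw [Module.finrank_fintype_fun_eq_card] at h2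
  have h3 : Fintype.card I27 = 27 := by simp [I27]
  rw [h3] at h2
  rw [add_comm]
  exact h2

theorem qm_map {F : Type*} [Field F] (f : F →+* K) (A : Matrix I27 I27 F) (μ : F) :
    (qm A μ).map f = qm (A.map f) (f μ) := by
  unfold qm
  ext i j
  simp [Matrix.mul_apply, Matrix.one_apply, apply_ite f, map_sum]

theorem qm_conj (P : GL I27 K) (A : Matrix I27 I27 K) (μ : K) :
    qm ((P : Matrix I27 I27 K) * A * ((P⁻¹ : GL I27 K) : Matrix I27 I27 K)) μ =
      (P : Matrix I27 I27 K) * qm A μ * ((P⁻¹ : GL I27 K) : Matrix I27 I27 K) := by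
  have h1 : ((P⁻¹ : GL I27 K) : Matrix I27 I27 K) * (P : Matrix I27 I27 K) = 1 := by
    rw [← Units.val_mul, inv_mul_cancel, Units.val_one]
  have h2 : (P : Matrix I27 I27 K) * ((P⁻¹ : GL I27 K) : Matrix I27 I27 K) = 1 := by
    rw [← Units.val_mul, mul_inv_cancel, Units.val_one]
  unfold qm
  generalize ((P⁻¹ : GL I27 K) : Matrix I27 I27 K) = Q at *
  generalize (P : Matrix I27 I27 K) = P at *
  have h3 : P * A * Q * (P * A * Q) = P * (A * A) * Q := by
    calc P * A * Q * (P * A * Q) = P * A * (Q * P) * (A * Q) := by simp only [mul_assoc]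
      _ = _ := by rw [h1, mul_one]; simp only [mul_assoc]
  rw [h3, mul_add, mul_sub, add_mul, sub_mul, mul_one, h2, mul_smul_comm, smul_mul_assoc]

theorem rank_conj (P : GL I27 K) (A : Matrix I27 I27 K) :
    ((P : Matrix I27 I27 K) * A * ((P⁻¹ : GL I27 K) : Matrix I27 I27 K)).rank = A.rank := by
  have hP : IsUnit (P : Matrix I27 I27 K).det := (Matrix.isUnit_iff_isUnit_det _).1 P.isUnit
  have hQ : IsUnit ((P⁻¹ : GL I27 K) : Matrix I27 I27 K).det := (Matrix.isUnit_iff_isUnit_det _).1 (P⁻¹).isUnit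
  rw [Matrix.rank_mul_eq_left_of_isUnit_det _ _ hQ, Matrix.rank_mul_eq_right_of_isUnit_det _ _ hP]

theorem rank_qm_diagonal [DecidableEq K] (D : I27 → K) (μ : K) :
    (∑ p : I27, if D p * D p - μ * D p + 1 = 0 then 1 else 0) + (qm (Matrix.diagonal D) μ).rank = 27 := by
  have h1 : qm (Matrix.diagonal D) μ = Matrix.diagonal fun p => D p * D p - μ * D p + 1 := by
    unfold qm
    rw [Matrix.diagonal_mul_diagonal, ← Matrix.diagonal_smul, ← Matrix.diagonal_one]
    ext i j
    by_cases hij : i = j
    · subst hij; simp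
    · simp [hij]
  have h4 := Finset.card_filter_add_card_filter_not (s := (Finset.univ : Finset I27))
    (p := fun i => D i * D i - μ * D i + 1 = 0)
  have h5 : (Finset.univ : Finset I27).card = 27 := by
    rw [Finset.card_univ]; simp [I27]
  rw [h5] at h4
  rw [h1, Matrix.rank_diagonal, ← Finset.card_filter, Fintype.card_subtype]
  exact h4

end Mat

end Cfsg.Agent.H834.F4
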