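import Cfsg.Agent.H834.F4.Tab

/-!
# S5926, F-E4 (helper834): the algebra of the claim `Tor.axis`
-/

set_option autoImplicit false

namespace Cfsg.Agent.H834.F4

open Cfsg.Lie Cfsg.Agent.H952.F4
open Cfsg.Agent.ChevalleyStructure.E6Min.Tables Cfsg.Agent.ChevalleyStructure.E6Min.Basic

variable {K : Type*} [Field K]

/-- the coordinate vector -/
def E (K : Type*) [Field K] (k : ℕ) : I27 → K := Pi.single (dec k) 1

theorem E_apply {k m : ℕ} (hk : k < 27) (hm : m < 27) : E K k (dec m) = if m = k then 1 else 0 := by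
  unfold E
  by_cases h : m = k
  · rw [if_pos h, h, Pi.single_eq_same]
  · rw [if_neg h, Pi.single_eq_of_ne]
    intro h5
    exact h ((dec_eq_iff hm hk).1 h5)

theorem mem_T {m : ℕ} (hm : m < 27) : Tm m ∈ T := by
  have h : T.length = 27 := rfl
  rw [Tm, List.getD_eq_getElem _ _ (h ▸ hm)]
  exact List.getElem_mem _

theorem propA {L : List ℕ} {e k : ℕ} (hk : k < 27) (h : chkA L e k = true) {w : I27 → K}
    (hw : ∀ m < 27, inC L e m = false → w (dec m) = 0) : cr (E K k) w = 0 := by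
  apply ext27
  intro m hm
  rw [cr_apply _ _ hm, Pi.zero_apply]
  apply List.sum_eq_zero
  intro z hz
  obtain ⟨t, ht, rfl⟩ := List.mem_map.1 hz
  have h1 := List.all_eq_true.1 (List.all_eq_true.1 h _ (mem_T hm)) t ht
  obtain ⟨hn, hr⟩ := rows_ok ⟨m, hm⟩
  obtain ⟨-, h2, h3⟩ := hr t ht
  rw [E_apply hk h2, E_apply hk h3]
  rw [Bool.and_eq_true, Bool.not_eq_true', Bool.not_eq_true', Bool.and_eq_false_iff, Bool.and_eq_false_iff] at h1
  obtain ⟨h4, h5⟩ := h1
  have e1 : (if t.2.1 = k then (1 : K) else 0) * w (dec t.2.2) = 0 := by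
    rcases h4 with h4 | h4
    · rw [if_neg (by simpa using h4), zero_mul]
    · rw [hw _ h3 h4, mul_zero]
  have e2 : w (dec t.2.1) * (if t.2.2 = k then (1 : K) else 0) = 0 := by
    rcases h5 with h5 | h5
    · rw [if_neg (by simpa using h5), mul_zero]
    · rw [hw _ h2 h5, zero_mul]
  rw [e1, e2, add_zero, mul_zero]

theorem propB {L : List ℕ} {e k : ℕ} (h : chkB L e k = true) {c : I27 → K}
    (hc : ∀ m < 27, L.getD m 9 ≠ 0 → c (dec m) = 0)
    (hw : ∀ w : I27 → K, (∀ m < 27, inC L e m = false → w (dec m) = 0) → cr c w = 0) :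
    ∀ y < 27, y ≠ k → c (dec y) = 0 := by
  intro y hy hyk
  have h1 := List.all_eq_true.1 h y (List.mem_range.2 hy)
  simp only [Bool.or_eq_true, bne_iff_ne, beq_iff_eq, List.any_eq_true, Bool.and_eq_true, List.mem_range] at h1
  rcases h1 with (h1 | h1) | ⟨m, hm, t, ht, h2⟩
  · exact hc y hy h1
  · exact absurd h1 hyk
  · obtain ⟨hn, hr⟩ := rows_ok ⟨m, hm⟩
    obtain ⟨hs, h3, h4⟩ := hr t ht
    have key : ∀ γ : ℕ, γ < 27 → inC L e γ = true → ((t.2.1 = y ∧ t.2.2 = γ) ∨ (t.2.1 = γ ∧ t.2.2 = y)) →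
        c (dec y) = 0 := by
      intro γ hγ hin hcase
      have h5 := cr_single c hm ht hcase
      rw [hw (Pi.single (dec γ) 1), Pi.zero_apply] at h5
      · rcases hs with hs | hs
        · rw [hs] at h5; simpa using h5.symm
        · rw [hs] at h5; simpa using h5.symm
      · intro m' hm' hin'
        have h6 := E_apply (K := K) hγ hm'
        unfold E at h6
        rw [h6, if_neg]
        rintro rfl
        rw [hin] at hin'
        exact absurd hin' (by simp)
    rcases h2 with ⟨h2, h2'⟩ | ⟨h2, h2'⟩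
    · exact key _ h4 h2' (Or.inl ⟨h2, rfl⟩)
    · exact key _ h3 h2' (Or.inr ⟨rfl, h2⟩)

theorem propE {L : List ℕ} {k : ℕ} (h : chkE L k = true) {x : I27 → K}
    (hx : ∀ m < 27, L.getD m 9 ≠ 0 → x (dec m) = 0) (hk : x (dec k) = 0) :
    ∀ y < 27, y ≠ k → sh x (dec y) = 0 := by
  intro m hm hmk
  have h1 := List.all_eq_true.1 h m (List.mem_range.2 hm)
  simp only [Bool.or_eq_true, bne_iff_ne, beq_iff_eq, List.all_eq_true] at h1
  have h2 := h1.resolve_left hmk
  obtain ⟨hn, hr⟩ := rows_ok ⟨m, hm⟩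
  rw [sh_apply _ hm]
  apply List.sum_eq_zero
  intro z hz
  obtain ⟨t, ht, rfl⟩ := List.mem_map.1 hz
  obtain ⟨-, h3, h4⟩ := hr t ht
  rcases h2 t ht with (h5 | h5) | h5 | h5
  · rw [hx _ h3 h5, zero_mul, mul_zero]
  · rw [h5, hk, zero_mul, mul_zero]
  · rw [hx _ h4 h5, mul_zero, mul_zero]
  · rw [h5, hk, mul_zero, mul_zero]

theorem eq_smul_E {k : ℕ} (hk : k < 27) {c : I27 → K} (h : ∀ y < 27, y ≠ k → c (dec y) = 0) :
    c = c (dec k) • E K k := by
  apply ext27
  intro m hm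
  rw [Pi.smul_apply, E_apply hk hm, smul_eq_mul]
  by_cases hmk : m = k
  · rw [if_pos hmk, mul_one, hmk]
  · rw [if_neg hmk, mul_zero, h m hm hmk]

theorem tr1_E {k : ℕ} (hk : k = 0 ∨ k = 4 ∨ k = 8) : tr1 (E K k) = 1 := by
  have h1 : k < 27 := by omega
  have h0 : tr1 (E K k) = E K k (dec 0) + E K k (dec 4) + E K k (dec 8) := by
    simp only [tr1, Matrix.trace, Fin.sum_univ_three]
    rfl
  rw [h0, E_apply h1 (by omega), E_apply h1 (by omega), E_apply h1 (by omega)]
  rcases hk with rfl | rfl | rfl <;> simp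

theorem tf_E {k : ℕ} (hk : k = 0 ∨ k = 4 ∨ k = 8) (x : I27 → K) : tf x (E K k) = x (dec k) := by
  have h1 : k < 27 := by omega
  have h0 : ∀ i a b : Fin 3, E K k (i, a, b) = if (i, a, b) = dec k then 1 else 0 := by
    intro i a b
    unfold E
    rw [Pi.single_apply]
  have d0 : dec 0 = ((0, 0, 0) : I27) := rfl
  have d4 : dec 4 = ((0, 1, 1) : I27) := rfl
  have d8 : dec 8 = ((0, 2, 2) : I27) := rfl
  simp only [tf, Matrix.trace, Fin.sum_univ_three, Matrix.diag_apply, Matrix.mul_apply, mat3, Matrix.of_apply]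
  rcases hk with rfl | rfl | rfl
  · simp [h0, d0]
  · simp [h0, d4]
  · simp [h0, d8]

theorem core (h2 : (2 : K) ≠ 0) {L : List ℕ} {e k : ℕ} (hk : k = 0 ∨ k = 4 ∨ k = 8) (hkL : L.getD k 9 = 0)
    (hA : chkA L e k = true) (hB : chkB L e k = true) (hE : chkE L k = true) (s : (I27 → K) →ₗ[K] (I27 → K))
    (hsJ : ∀ x : I27 → K, (∀ m < 27, L.getD m 9 ≠ 0 → x (dec m) = 0) →
      ∀ m < 27, L.getD m 9 ≠ 0 → s x (dec m) = 0)
    (hsU : ∀ w : I27 → K, (∀ m < 27, inC L e m = false → w (dec m) = 0) →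
      ∃ w' : I27 → K, (∀ m < 27, inC L e m = false → w' (dec m) = 0) ∧ s w' = w)
    (hcr : ∀ x y, cr (s x) (s y) = s (cr x y)) (htf : ∀ x y, tf (s x) (s y) = tf x y)
    (htr : ∀ x, tr1 (s x) = tr1 x) (x : I27 → K) (hx : ∀ m < 27, L.getD m 9 ≠ 0 → x (dec m) = 0)
    (hsx : s x = -x) (w : I27 → K) (hw : ∀ m < 27, inC L e m = false → w (dec m) = 0) : cr (sh x) w = 0 := by
  have hk27 : k < 27 := by omega
  -- `E` is in the fixed space
  have hEJ : ∀ m < 27, L.getD m 9 ≠ 0 → E K k (dec m) = 0 := by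
    intro m hm hne
    rw [E_apply hk27 hm, if_neg]
    rintro rfl
    exact hne hkL
  have h1 : ∀ w : I27 → K, (∀ m < 27, inC L e m = false → w (dec m) = 0) → cr (s (E K k)) w = 0 := by
    intro w hw
    obtain ⟨w', hw', rfl⟩ := hsU w hw
    rw [hcr, propA hk27 hA hw', map_zero]
  have h3 := eq_smul_E hk27 (propB hB (hsJ _ hEJ) h1)
  have h4 : s (E K k) (dec k) = 1 := by
    have h5 := htr (E K k)
    rw [h3, tr1_E hk] at h5
    have h6 : tr1 (s (E K k) (dec k) • E K k) = s (E K k) (dec k) * tr1 (E K k) := by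
      simp only [tr1, mat3, Matrix.trace, Fin.sum_univ_three, Matrix.diag_apply, Pi.smul_apply, smul_eq_mul,
        Matrix.of_apply]
      ring
    rw [h6, tr1_E hk, mul_one] at h5
    exact h5
  rw [h4, one_smul] at h3
  have h5 : x (dec k) = 0 := by
    have h6 := htf x (E K k)
    rw [h3, hsx, tf_E hk, tf_E hk, Pi.neg_apply] at h6
    have h7 : (2 : K) * x (dec k) = 0 := by linear_combination -h6
    exact (mul_eq_zero.1 h7).resolve_left h2
  have h6 := eq_smul_E hk27 (propE hE hx h5)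
  have h7 : ∀ (c : K) (x y : I27 → K), cr (c • x) y = c • cr x y := by
    intro c x y
    apply ext27
    intro m hm
    rw [Pi.smul_apply, cr_apply _ _ hm, cr_apply _ _ hm, smul_eq_mul, ← List.sum_map_mul_left]
    congr 1
    apply List.map_congr_left
    intro t _
    simp only [Pi.smul_apply, smul_eq_mul]
    ring
  rw [h6, h7, propA hk27 hA hw, smul_zero]

end Cfsg.Agent.H834.F4
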