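import Cfsg.Agent.H952.F4.Defs

/-!
# S5926, F-E4 (helper834): the adjoint `x ↦ x^#` in coordinates

`T` : for every coordinate the five monomials (sign, code, code) of `x^#`.
-/

set_option autoImplicit false

namespace Cfsg.Agent.H834.F4

open Cfsg.Lie Cfsg.Agent.H952.F4
open Cfsg.Agent.ChevalleyStructure.E6Min.Tables Cfsg.Agent.ChevalleyStructure.E6Min.Basic

/-- monomials of the adjoint -/
def T : List (List (ℤ × ℕ × ℕ)) :=
[[(1, 4, 8), (-1, 5, 7), (-1, 9, 18), (-1, 10, 21), (-1, 11, 24)],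
  [(-1, 1, 8), (1, 2, 7), (-1, 9, 19), (-1, 10, 22), (-1, 11, 25)],
  [(1, 1, 5), (-1, 2, 4), (-1, 9, 20), (-1, 10, 23), (-1, 11, 26)],
  [(-1, 3, 8), (1, 5, 6), (-1, 12, 18), (-1, 13, 21), (-1, 14, 24)],
  [(1, 0, 8), (-1, 2, 6), (-1, 12, 19), (-1, 13, 22), (-1, 14, 25)],
  [(-1, 0, 5), (1, 2, 3), (-1, 12, 20), (-1, 13, 23), (-1, 14, 26)],
  [(1, 3, 7), (-1, 4, 6), (-1, 15, 18), (-1, 16, 21), (-1, 17, 24)],
  [(-1, 0, 7), (1, 1, 6), (-1, 15, 19), (-1, 16, 22), (-1, 17, 25)],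
  [(1, 0, 4), (-1, 1, 3), (-1, 15, 20), (-1, 16, 23), (-1, 17, 26)],
  [(1, 22, 26), (-1, 23, 25), (-1, 0, 9), (-1, 1, 12), (-1, 2, 15)],
  [(-1, 19, 26), (1, 20, 25), (-1, 0, 10), (-1, 1, 13), (-1, 2, 16)],
  [(1, 19, 23), (-1, 20, 22), (-1, 0, 11), (-1, 1, 14), (-1, 2, 17)],
  [(-1, 21, 26), (1, 23, 24), (-1, 3, 9), (-1, 4, 12), (-1, 5, 15)],
  [(1, 18, 26), (-1, 20, 24), (-1, 3, 10), (-1, 4, 13), (-1, 5, 16)],
  [(-1, 18, 23), (1, 20, 21), (-1, 3, 11), (-1, 4, 14), (-1, 5, 17)],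
  [(1, 21, 25), (-1, 22, 24), (-1, 6, 9), (-1, 7, 12), (-1, 8, 15)],
  [(-1, 18, 25), (1, 19, 24), (-1, 6, 10), (-1, 7, 13), (-1, 8, 16)],
  [(1, 18, 22), (-1, 19, 21), (-1, 6, 11), (-1, 7, 14), (-1, 8, 17)],
  [(1, 13, 17), (-1, 14, 16), (-1, 18, 0), (-1, 19, 3), (-1, 20, 6)],
  [(-1, 10, 17), (1, 11, 16), (-1, 18, 1), (-1, 19, 4), (-1, 20, 7)],
  [(1, 10, 14), (-1, 11, 13), (-1, 18, 2), (-1, 19, 5), (-1, 20, 8)],
  [(-1, 12, 17), (1, 14, 15), (-1, 21, 0), (-1, 22, 3), (-1, 23, 6)],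
  [(1, 9, 17), (-1, 11, 15), (-1, 21, 1), (-1, 22, 4), (-1, 23, 7)],
  [(-1, 9, 14), (1, 11, 12), (-1, 21, 2), (-1, 22, 5), (-1, 23, 8)],
  [(1, 12, 16), (-1, 13, 15), (-1, 24, 0), (-1, 25, 3), (-1, 26, 6)],
  [(-1, 9, 16), (1, 10, 15), (-1, 24, 1), (-1, 25, 4), (-1, 26, 7)],
  [(1, 9, 13), (-1, 10, 12), (-1, 24, 2), (-1, 25, 5), (-1, 26, 8)]]

/-- the entries of `T` -/
def Tm (m : ℕ) : List (ℤ × ℕ × ℕ) := T.getD m []

theorem sh_apply {R : Type*} [CommRing R] (x : I27 → R) {m : ℕ} (hm : m < 27) :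
    sh x (dec m) = ((Tm m).map fun e => (e.1 : R) * (x (dec e.2.1) * x (dec e.2.2))).sum := by
  interval_cases m <;>
    simp [Tm, T, sh, ofM, dec, mat3, Matrix.adjugate_fin_three, Matrix.mul_apply, Fin.sum_univ_three, Fin.ofNat] <;>
    ring

theorem list_aux {R : Type*} [CommRing R] (a b : ℕ → R) (l : List (ℤ × ℕ × ℕ)) :
    (l.map fun e => (e.1 : R) * ((a e.2.1 + b e.2.1) * (a e.2.2 + b e.2.2))).sum -
      (l.map fun e => (e.1 : R) * (a e.2.1 * a e.2.2)).sum - (l.map fun e => (e.1 : R) * (b e.2.1 * b e.2.2)).sum =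
      (l.map fun e => (e.1 : R) * (a e.2.1 * b e.2.2 + b e.2.1 * a e.2.2)).sum := by
  induction l with
  | nil => simp
  | cons t l ih =>
    simp only [List.map_cons, List.sum_cons] at ih ⊢
    linear_combination ih

theorem cr_apply {R : Type*} [CommRing R] (x y : I27 → R) {m : ℕ} (hm : m < 27) :
    cr x y (dec m) = ((Tm m).map fun e => (e.1 : R) * (x (dec e.2.1) * y (dec e.2.2) +
      y (dec e.2.1) * x (dec e.2.2))).sum := by
  rw [← list_aux (fun i => x (dec i)) (fun i => y (dec i))]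
  unfold cr
  rw [Pi.sub_apply, Pi.sub_apply, sh_apply _ hm, sh_apply _ hm, sh_apply _ hm]
  rfl

theorem ext27 {R : Type*} {x y : I27 → R} (h : ∀ m < 27, x (dec m) = y (dec m)) : x = y := by
  funext p
  rw [← dec_code p]
  exact h _ (code_lt p)

theorem sh_map {R S : Type*} [CommRing R] [CommRing S] (f : R →+* S) (x : I27 → R) :
    sh (fun p => f (x p)) = fun p => f (sh x p) := by
  apply ext27
  intro m hm
  rw [sh_apply _ hm]
  rw [sh_apply _ hm, map_list_sum, List.map_map]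
  congr 1
  apply List.map_congr_left
  intro e _
  simp

theorem cr_map {R S : Type*} [CommRing R] [CommRing S] (f : R →+* S) (x y : I27 → R) :
    cr (fun p => f (x p)) (fun p => f (y p)) = fun p => f (cr x y p) := by
  apply ext27
  intro m hm
  rw [cr_apply _ _ hm]
  rw [cr_apply _ _ hm, map_list_sum, List.map_map]
  congr 1
  apply List.map_congr_left
  intro e _
  simp

/-- the indices of a row -/
def ixs (l : List (ℤ × ℕ × ℕ)) : List ℕ := l.flatMap fun t => [t.2.1, t.2.2]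

theorem rows_ok : ∀ m : Fin 27, (ixs (Tm m.val)).Nodup ∧ (∀ t ∈ Tm m.val, (t.1 = 1 ∨ t.1 = -1) ∧ t.2.1 < 27 ∧ t.2.2 < 27) := by
  decide +kernel

theorem sum_zero {R : Type*} [CommRing R] (c d : ℕ → R) (l : List (ℤ × ℕ × ℕ)) (h : ∀ i ∈ ixs l, d i = 0) :
    (l.map fun e => (e.1 : R) * (c e.2.1 * d e.2.2 + d e.2.1 * c e.2.2)).sum = 0 := by
  apply List.sum_eq_zero
  intro z hz
  obtain ⟨t, ht, rfl⟩ := List.mem_map.1 hz
  have h1 : d t.2.1 = 0 := h _ (List.mem_flatMap.2 ⟨t, ht, by simp⟩)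
  have h2 : d t.2.2 = 0 := h _ (List.mem_flatMap.2 ⟨t, ht, by simp⟩)
  rw [h1, h2]
  ring

theorem sum_single {R : Type*} [CommRing R] (c d : ℕ → R) (l : List (ℤ × ℕ × ℕ)) (hn : (ixs l).Nodup)
    {t : ℤ × ℕ × ℕ} (ht : t ∈ l) {y γ : ℕ} (h : (t.2.1 = y ∧ t.2.2 = γ) ∨ (t.2.1 = γ ∧ t.2.2 = y)) (hγ : d γ = 1)
    (hd : ∀ i ∈ ixs l, i ≠ γ → d i = 0) :
    (l.map fun e => (e.1 : R) * (c e.2.1 * d e.2.2 + d e.2.1 * c e.2.2)).sum = (t.1 : R) * c y := by
  induction l with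
  | nil => simp at ht
  | cons e l ih =>
    have hix : ixs (e :: l) = e.2.1 :: e.2.2 :: ixs l := by simp [ixs]
    rw [hix] at hn hd
    rw [List.map_cons, List.sum_cons]
    rw [List.nodup_cons, List.nodup_cons] at hn
    rcases List.mem_cons.1 ht with rfl | ht'
    · have hrest : ∀ i ∈ ixs l, d i = 0 := by
        intro i hi
        apply hd i (by simp [hi])
        rintro rfl
        rcases h with ⟨h1, h2⟩ | ⟨h1, h2⟩
        · exact hn.2.1 (h2 ▸ hi)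
        · exact hn.1 (List.mem_cons_of_mem _ (h1 ▸ hi))
      rw [sum_zero c d l hrest, add_zero]
      rcases h with ⟨h1, h2⟩ | ⟨h1, h2⟩
      · have h3 : t.2.1 ≠ γ := by
          intro h4
          apply hn.1
          rw [h4, ← h2]
          exact List.mem_cons_self ..
        have h4 : d t.2.1 = 0 := hd _ (by simp) h3
        rw [h4, h2, hγ, h1]
        ring
      · have h3 : t.2.2 ≠ γ := by
          intro h4
          apply hn.1
          rw [h1, ← h4]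
          exact List.mem_cons_self ..
        have h4 : d t.2.2 = 0 := hd _ (by simp) h3
        rw [h4, h1, hγ, h2]
        ring
    · have hmem : γ ∈ ixs l := by
        rcases h with ⟨h1, h2⟩ | ⟨h1, h2⟩
        · exact List.mem_flatMap.2 ⟨t, ht', by simp [h2]⟩
        · exact List.mem_flatMap.2 ⟨t, ht', by simp [h1]⟩
      have h1 : d e.2.1 = 0 := by
        apply hd _ (by simp)
        rintro h5
        exact hn.1 (List.mem_cons_of_mem _ (h5 ▸ hmem))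
      have h2 : d e.2.2 = 0 := by
        apply hd _ (by simp)
        rintro h5
        exact hn.2.1 (h5 ▸ hmem)
      rw [h1, h2, ih hn.2.2 ht' (fun i hi hne => hd i (by simp [hi]) hne)]
      ring

/-- a coordinate of `c × e_γ` -/
theorem cr_single {R : Type*} [CommRing R] (c : I27 → R) {m : ℕ} (hm : m < 27) {t : ℤ × ℕ × ℕ} (ht : t ∈ Tm m)
    {y γ : ℕ} (h : (t.2.1 = y ∧ t.2.2 = γ) ∨ (t.2.1 = γ ∧ t.2.2 = y)) :
    cr c (Pi.single (dec γ) 1) (dec m) = (t.1 : R) * c (dec y) := by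
  obtain ⟨hn, hr⟩ := rows_ok ⟨m, hm⟩
  have hγ27 : γ < 27 := by
    rcases h with ⟨h1, h2⟩ | ⟨h1, h2⟩
    · rw [← h2]; exact (hr t ht).2.2
    · rw [← h1]; exact (hr t ht).2.1
  rw [cr_apply _ _ hm]
  refine sum_single (fun i => c (dec i)) (fun i => (Pi.single (dec γ) 1 : I27 → R) (dec i)) (Tm m) hn ht h
    (by simp) ?_
  intro i hi hne
  obtain ⟨t', ht', hi'⟩ := List.mem_flatMap.1 hi
  have hi27 : i < 27 := by
    have := hr t' ht'
    simp only [List.mem_cons, List.not_mem_nil, or_false] at hi'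
    rcases hi' with rfl | rfl
    · exact this.2.1
    · exact this.2.2
  rw [Pi.single_eq_of_ne]
  intro h5
  exact hne ((dec_eq_iff hi27 hγ27).1 h5)

end Cfsg.Agent.H834.F4
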