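import Cfsg.Agent.H834.F4.Sh
import Cfsg.Agent.Nodes.RGDChev

/-!
# S5926, F-E4 (helper834): elements of order 5 of the torus of `F₄`

`chk_all` : for the 625 vectors `v ∈ (ℤ/5)⁴`: if exactly five of the 27 coordinates have value 0 then the other values
have multiplicities `6, 5, 5, 6` or `5, 6, 6, 5`, and the properties A, B, E hold for the class of multiplicity 12.
-/

set_option autoImplicit false

namespace Cfsg.Agent.H834.F4

open Cfsg.Lie Cfsg.Agent.H952.F4
open Cfsg.Agent.ChevalleyStructure.E6Min.Tables Cfsg.Agent.ChevalleyStructure.E6Min.Basic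
open Cfsg.Agent.Nodes.RGDChev

/-- the weights modulo 5 -/
def rN : List (ℕ × ℕ × ℕ × ℕ) :=
[(0, 0, 0, 0), (0, 1, 0, 0), (1, 3, 2, 1), (0, 4, 0, 0), (0, 0, 0, 0), (1, 2, 2, 1), (4, 2, 3, 4), (4, 3, 3, 4), (0, 0, 0, 0), (4, 0, 0, 0), (1, 2, 1, 0), (1, 2, 1, 1), (4, 4, 0, 0), (1, 1, 1, 0), (1, 1, 1, 1), (3, 2, 3, 4), (0, 4, 4, 4), (0, 4, 4, 0), (1, 0, 0, 0), (1, 1, 0, 0), (2, 3, 2, 1), (4, 3, 4, 0), (4, 4, 4, 0), (0, 1, 1, 1), (4, 3, 4, 4), (4, 4, 4, 4), (0, 1, 1, 0)]

/-- coordinates of a table entry -/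
def rq (m : ℕ) : Fin 4 → ℕ :=
  ![(rN.getD m (0, 0, 0, 0)).1, (rN.getD m (0, 0, 0, 0)).2.1, (rN.getD m (0, 0, 0, 0)).2.2.1, (rN.getD m (0, 0, 0, 0)).2.2.2]

theorem rq_spec : ∀ m : Fin 27, (wtab.getD m.val 48 = 48 ∧ rq m.val = 0) ∨
    (wtab.getD m.val 48 ≠ 48 ∧ ∀ i : Fin 4, (5 : ℤ) ∣ vec chevF4 4 (wtab.getD m.val 48) i - (rq m.val i : ℤ)) := by
  decide +kernel

/-- the values of the coordinates -/
def vals (a b c d : ℕ) : List ℕ := rN.map fun t => (a * t.1 + b * t.2.1 + c * t.2.2.1 + d * t.2.2.2) % 5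

def inC (L : List ℕ) (e m : ℕ) : Bool := L.getD m 9 == e || L.getD m 9 == 5 - e

def chkA (L : List ℕ) (e k : ℕ) : Bool :=
  T.all fun row => row.all fun t => !(t.2.1 == k && inC L e t.2.2) && !(t.2.2 == k && inC L e t.2.1)

def chkB (L : List ℕ) (e k : ℕ) : Bool :=
  (List.range 27).all fun y => L.getD y 9 != 0 || y == k ||
    (List.range 27).any fun m => (Tm m).any fun t => (t.2.1 == y && inC L e t.2.2) || (t.2.2 == y && inC L e t.2.1)

def chkE (L : List ℕ) (k : ℕ) : Bool :=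
  (List.range 27).all fun m => m == k ||
    (Tm m).all fun t => (L.getD t.2.1 9 != 0 || t.2.1 == k) || (L.getD t.2.2 9 != 0 || t.2.2 == k)

def chk (L : List ℕ) : Bool := L.count 0 != 5 ||
  (((L.count 1 == 6 && L.count 4 == 6 && L.count 2 == 5 && L.count 3 == 5) ||
    (L.count 1 == 5 && L.count 4 == 5 && L.count 2 == 6 && L.count 3 == 6)) &&
  [1, 2].all fun e => L.count e + L.count (5 - e) != 12 ||
    [0, 4, 8].any fun k => chkA L e k && chkB L e k && chkE L k)

theorem allLt_five {f : ℕ → Bool} (h0 : f 0 = true) (h1 : f 1 = true) (h2 : f 2 = true) (h3 : f 3 = true)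
    (h4 : f 4 = true) : allLt 5 f = true := by
  show (f 4 && (f 3 && (f 2 && (f 1 && (f 0 && true))))) = true
  rw [h0, h1, h2, h3, h4]
  rfl

theorem chk_0 : (allLt 5 fun b => allLt 5 fun c => allLt 5 fun d => chk (vals 0 b c d)) = true := by
  decide +kernel

theorem chk_1 : (allLt 5 fun b => allLt 5 fun c => allLt 5 fun d => chk (vals 1 b c d)) = true := by
  decide +kernel

theorem chk_2 : (allLt 5 fun b => allLt 5 fun c => allLt 5 fun d => chk (vals 2 b c d)) = true := by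
  decide +kernel

theorem chk_3 : (allLt 5 fun b => allLt 5 fun c => allLt 5 fun d => chk (vals 3 b c d)) = true := by
  decide +kernel

theorem chk_4 : (allLt 5 fun b => allLt 5 fun c => allLt 5 fun d => chk (vals 4 b c d)) = true := by
  decide +kernel

theorem chk_all : allLt 5 (fun a => allLt 5 fun b => allLt 5 fun c => allLt 5 fun d => chk (vals a b c d)) = true :=
  allLt_five chk_0 chk_1 chk_2 chk_3 chk_4

end Cfsg.Agent.H834.F4
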